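/-
helper23: module S2318-[A-CELL] of helper82's sheet (Steinberg character = unique p-defect-zero
character): the generic-cell hypothesis gives `⟨Ind_B θ̃, Ind_U ψ⟩ ≤ 1`.
-/
import Mathlib
import Cfsg.Agent.Lib.Helper82.StUniq.Defs
import Cfsg.Agent.Lib.Helper23.SLDZMack

set_option autoImplicit false

namespace Cfsg.Agent.Lib.Helper23.StUniq

open Cfsg
open scoped ComplexConjugate
open Cfsg.Agent.Lib.Helper79.BrauerN (linFun)
open Cfsg.Agent.Lib.Helper82.SLDZ (Compat)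
open Cfsg.Agent.Lib.Helper82.StUniq

universe u
variable {G : Type u} [Group G]

/-- **S2318-[A-CELL]** -/
theorem classInner_tilde_le_one [Fintype G] (S : BorelData G) (n₀ : G) (ψ : ↥S.U →* ℂˣ)
    (hcell : CellHyp S n₀ ψ) (θ : ↥S.T →* ℂˣ) :
    ∃ k : ℕ, k ≤ 1 ∧
      classInner (indFun S.B (linFun (S.tilde θ))) (indFun S.U (linFun ψ)) = (k : ℂ) := by
  classical
  set R : Finset G :=
    insert n₀ (Finset.univ.filter (fun g => ¬ ∃ b ∈ S.B, ∃ u ∈ S.U, g = b * n₀ * u)) with hR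
  have hcover : ∀ g : G, ∃ r ∈ R, ∃ h ∈ S.B, ∃ k ∈ S.U, g = h * r * k := by
    intro g
    by_cases hg : ∃ b ∈ S.B, ∃ u ∈ S.U, g = b * n₀ * u
    · obtain ⟨b, hb, u, hu, rfl⟩ := hg
      exact ⟨n₀, Finset.mem_insert_self _ _, b, hb, u, hu, rfl⟩
    · refine ⟨g, ?_, 1, S.B.one_mem, 1, S.U.one_mem, by simp⟩
      rw [hR, Finset.mem_insert]
      right
      rw [Finset.mem_filter]
      exact ⟨Finset.mem_univ _, hg⟩
  obtain ⟨m, hm, hval⟩ := Cfsg.Agent.Lib.Helper23.SLDZMack.mackey_le S.B S.U (S.tilde θ) ψ R hcover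
  refine ⟨m, hm.trans ?_, hval⟩
  have hsub : R.filter (fun r => Compat (S.tilde θ) ψ r) ⊆ {n₀} := by
    intro r hr
    rw [Finset.mem_filter] at hr
    rw [Finset.mem_singleton]
    by_contra hne
    have hr2 : ¬ ∃ b ∈ S.B, ∃ u ∈ S.U, r = b * n₀ * u := by
      have := hr.1
      rw [hR, Finset.mem_insert] at this
      rcases this with h | h
      · exact absurd h hne
      · exact (Finset.mem_filter.mp h).2
    obtain ⟨x, hx, hx', hψ⟩ := hcell r hr2
    have hc := hr.2 x (S.hUB hx) hx'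
    rw [S.tilde_of_mem_U θ hx] at hc
    exact hψ hc.symm
  calc (R.filter (fun r => Compat (S.tilde θ) ψ r)).card ≤ ({n₀} : Finset G).card :=
        Finset.card_le_card hsub
    _ = 1 := Finset.card_singleton _

end Cfsg.Agent.Lib.Helper23.StUniq
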