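/-
helper23: module S2318-[A-NLPOS] of helper82's sheet (Steinberg character = unique p-defect-zero
character): if `⟨Ind_P Λ, Ind_U ψ⟩ = 0` for a character `Λ` of `P` and a linear character `ψ` of
`U`, then every double-coset term of the Mackey double sum vanishes.
-/
import Mathlib
import Cfsg.Agent.Lib.Helper82.StUniq.Defs
import Cfsg.Agent.Lib.Helper23.SLDZMack
import Cfsg.Agent.Lib.Helper78.CharMore
import Cfsg.Agent.Lib.Helper75.Clifford

set_option autoImplicit false

namespace Cfsg.Agent.Lib.Helper23.StUniq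

open Cfsg
open scoped ComplexConjugate
open Cfsg.Agent.Lib.Helper79.BrauerN (linFun)
open Cfsg.Agent.Lib.Helper82.SLDZ (Compat)
open Cfsg.Agent.Lib.Helper82.StUniq

universe u
variable {G : Type u} [Group G]

theorem ext_of_mem (H : Subgroup G) (θ : ↥H → ℂ) {g : G} (hg : g ∈ H) :
    extendByZero H θ g = θ ⟨g, hg⟩ := by
  unfold extendByZero
  exact Subtype.val_injective.extend_apply θ 0 ⟨g, hg⟩

theorem ext_of_not_mem (H : Subgroup G) (θ : ↥H → ℂ) {g : G} (hg : g ∉ H) :
    extendByZero H θ g = 0 := by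
  unfold extendByZero
  rw [Function.extend_apply']
  · rfl
  · rintro ⟨⟨a, ha⟩, rfl⟩
    exact hg ha

/-- One term of the Mackey double sum is a natural multiple of `|P ∩ zUz⁻¹|`. -/
theorem mackey_term_nat [Fintype G] (P U : Subgroup G) (Λ : ↥P → ℂ)
    (hΛ : IsCharacter ↥P Λ) (ψ : ↥U →* ℂˣ) (z : G) :
    ∃ k : ℕ, ∑ h : G, extendByZero P Λ h * conj (extendByZero U (linFun ψ) (z⁻¹ * h * z))
      = (k : ℂ) := by
  classical
  -- the intersection `Y = P ∩ zUz⁻¹`
  let c : G →* G := (MulAut.conj z⁻¹).toMonoidHom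
  have hc : ∀ h : G, c h = z⁻¹ * h * z := by
    intro h
    simp [c]
  let Y : Subgroup G := P ⊓ U.comap c
  have hYP : ∀ y : ↥Y, (y : G) ∈ P := fun y => (Subgroup.mem_inf.mp y.2).1
  have hYU : ∀ y : ↥Y, c (y : G) ∈ U := fun y => (Subgroup.mem_inf.mp y.2).2
  let iP : ↥Y →* ↥P := (Subgroup.inclusion (inf_le_left : Y ≤ P))
  let iU : ↥Y →* ↥U := (c.comp Y.subtype).codRestrict U hYU
  have hΛY : IsCharacter ↥Y (Λ ∘ iP) := Cfsg.Agent.Lib.Helper81.isCharacter_comp hΛ iP
  have hψY : IsIrrCharacter ↥Y (linFun (ψ.comp iU)) :=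
    Cfsg.Agent.Lib.Helper79.BrauerN.isIrrCharacter_linFun _
  obtain ⟨k, hk⟩ := Cfsg.Agent.Lib.Helper78.IsCharacter.exists_nat_classInner hΛY
    ⟨linFun (ψ.comp iU), hψY⟩
  refine ⟨k * Nat.card ↥Y, ?_⟩
  have hYne : (Nat.card ↥Y : ℂ) ≠ 0 := by
    have : Nat.card ↥Y ≠ 0 := Nat.card_pos.ne'
    exact_mod_cast this
  have hsum : ∑ h : G, extendByZero P Λ h * conj (extendByZero U (linFun ψ) (z⁻¹ * h * z))
      = ∑ y : ↥Y, (Λ ∘ iP) y * conj (linFun (ψ.comp iU) y) := by
    set F : G → ℂ :=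
      fun h : G => extendByZero P Λ h * conj (extendByZero U (linFun ψ) (z⁻¹ * h * z)) with hF
    have e1 : ∑ h : G, F h = ∑ h ∈ Finset.univ.filter (fun h : G => h ∈ Y), F h := by
      rw [Finset.sum_filter]
      apply Finset.sum_congr rfl
      intro h _
      by_cases hY : h ∈ Y
      · rw [if_pos hY]
      · rw [if_neg hY, hF]
        simp only
        by_cases hP : h ∈ P
        · have hU : z⁻¹ * h * z ∉ U := by
            intro hU
            apply hY
            refine Subgroup.mem_inf.mpr ⟨hP, ?_⟩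
            rw [Subgroup.mem_comap, hc]
            exact hU
          rw [ext_of_not_mem U _ hU, map_zero, mul_zero]
        · rw [ext_of_not_mem P _ hP, zero_mul]
    have e2 : ∑ h ∈ Finset.univ.filter (fun h : G => h ∈ Y), F h
        = ∑ y : {h : G // h ∈ Y}, F y :=
      Finset.sum_subtype (Finset.univ.filter (fun h : G => h ∈ Y)) (by simp) F
    rw [e1, e2]
    apply Fintype.sum_equiv (Equiv.refl _)
    intro y
    have h1 : (y : G) ∈ P := hYP y
    have h2 : z⁻¹ * (y : G) * z ∈ U := by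
      have := hYU y
      rwa [hc] at this
    rw [hF]
    simp only [Equiv.refl_apply]
    rw [ext_of_mem P Λ h1, ext_of_mem U _ h2]
    congr 2
    unfold linFun
    simp only [MonoidHom.comp_apply]
    congr 3
    simp [hc]
  rw [hsum]
  unfold classInner at hk
  have := congrArg (fun x => x * (Nat.card ↥Y : ℂ)) hk
  simp only at this
  rw [mul_comm ((Nat.card ↥Y : ℂ)⁻¹), mul_assoc, inv_mul_cancel₀ hYne, mul_one] at this
  rw [this]
  push_cast
  ring

/-- **S2318-[A-NLPOS]** -/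
theorem sum_eq_zero_of_classInner_indFun_eq_zero [Fintype G] (P U : Subgroup G) (Λ : ↥P → ℂ)
    (hΛ : IsCharacter ↥P Λ) (ψ : ↥U →* ℂˣ)
    (h0 : classInner (indFun P Λ) (indFun U (linFun ψ)) = 0) (m : G) :
    ∑ y : G, extendByZero P Λ y * conj (extendByZero U (linFun ψ) (m * y * m⁻¹)) = 0 := by
  classical
  rw [Cfsg.Agent.Lib.Helper23.SLDZMack.classInner_indFun_indFun'] at h0
  have hPne : (Nat.card ↥P : ℂ) ≠ 0 := by
    have : Nat.card ↥P ≠ 0 := Nat.card_pos.ne'
    exact_mod_cast this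
  have hUne : (Nat.card ↥U : ℂ) ≠ 0 := by
    have : Nat.card ↥U ≠ 0 := Nat.card_pos.ne'
    exact_mod_cast this
  have h1 : ∑ z : G, ∑ h : G,
      extendByZero P Λ h * conj (extendByZero U (linFun ψ) (z⁻¹ * h * z)) = 0 := by
    rcases mul_eq_zero.mp h0 with h | h
    · rcases mul_eq_zero.mp h with h | h
      · exact absurd (inv_eq_zero.mp h) hPne
      · exact absurd (inv_eq_zero.mp h) hUne
    · exact h
  choose k hk using mackey_term_nat P U Λ hΛ ψ
  simp only [hk] at h1
  have h2 : ∑ z : G, k z = 0 := by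
    have : ((∑ z : G, k z : ℕ) : ℂ) = 0 := by
      push_cast
      exact h1
    exact_mod_cast this
  have h3 : k m⁻¹ = 0 := by
    have := (Finset.sum_eq_zero_iff.mp h2) m⁻¹ (Finset.mem_univ _)
    exact this
  have h4 := hk m⁻¹
  rw [h3, inv_inv] at h4
  simpa using h4

end Cfsg.Agent.Lib.Helper23.StUniq
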