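/-
helper23: module S2318-[A-RANK1] of helper82's sheet (Steinberg character = unique p-defect-zero
character): in a "rank one" group `P = B ∪ BnB`, two linear characters of `B` compatible at `n`
(and, unless equal, neither self-compatible at `n`) induce the same character of `P`.
-/
import Mathlib
import Cfsg.Agent.Lib.Helper82.StUniq.Defs
import Cfsg.Agent.Lib.Helper23.SLDZMack
import Cfsg.Agent.Lib.Helper78.CharMore
import Cfsg.Agent.Lib.Helper75.Clifford

set_option autoImplicit false

namespace Cfsg.Agent.Lib.Helper23.StUniq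

open Cfsg
open scoped ComplexConjugate
open Cfsg.Agent.Lib.Helper79.BrauerN (linFun)
open Cfsg.Agent.Lib.Helper82.SLDZ (Compat)
open Cfsg.Agent.Lib.Helper82.StUniq

/-- compatibility at `1` of two linear characters of the same subgroup is equality -/
theorem compat_one_iff {P : Type*} [Group P] {B : Subgroup P} (α β : ↥B →* ℂˣ) :
    Compat α β 1 ↔ α = β := by
  constructor
  · intro h
    ext b
    have hb : (1 : P)⁻¹ * (b : P) * 1 ∈ B := by simp
    have := h (b : P) b.2 hb
    have e : (⟨(1 : P)⁻¹ * (b : P) * 1, hb⟩ : ↥B) = b := Subtype.ext (by simp)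
    rw [e] at this
    exact congrArg Units.val this
  · rintro rfl h hh hk
    congr 1
    apply Subtype.ext
    simp

/-- an element of the subgroup is always self-compatible -/
theorem compat_self_of_mem {P : Type*} [Group P] {B : Subgroup P} (α : ↥B →* ℂˣ) {n : P}
    (hn : n ∈ B) : Compat α α n := by
  intro h hh hk
  have e : (⟨n⁻¹ * h * n, hk⟩ : ↥B) = (⟨n, hn⟩ : ↥B)⁻¹ * ⟨h, hh⟩ * ⟨n, hn⟩ := Subtype.ext rfl
  rw [e, map_mul, map_mul, map_inv, mul_comm, mul_inv_cancel_left]

/-- **S2318-[A-RANK1]** -/
theorem indFun_eq_of_compat {P : Type*} [Group P] [Fintype P] (B : Subgroup P) (n : P)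
    (hcov : ∀ g : P, g ∈ B ∨ ∃ b ∈ B, ∃ b' ∈ B, g = b * n * b')
    (α β : ↥B →* ℂˣ) (hc : Compat α β n)
    (hα : α ≠ β → ¬ Compat α α n) (hβ : α ≠ β → ¬ Compat β β n) :
    indFun B (linFun α) = indFun B (linFun β) := by
  classical
  by_cases hab : α = β
  · rw [hab]
  have hnB : n ∉ B := fun hn => hα hab (compat_self_of_mem α hn)
  have h1n : (1 : P) ≠ n := fun h => hnB (h ▸ B.one_mem)
  set R : Finset P := {1, n} with hR
  have hcover : ∀ g : P, ∃ r ∈ R, ∃ h ∈ B, ∃ k ∈ B, g = h * r * k := by
    intro g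
    rcases hcov g with hg | ⟨b, hb, b', hb', rfl⟩
    · exact ⟨1, by simp [hR], g, hg, 1, B.one_mem, by simp⟩
    · exact ⟨n, by simp [hR], b, hb, b', hb', rfl⟩
  have hdisj : ∀ r ∈ R, ∀ r' ∈ R, (∃ h ∈ B, ∃ k ∈ B, r' = h * r * k) → r = r' := by
    intro r hr r' hr' ⟨h, hh, k, hk, hrr⟩
    rw [hR, Finset.mem_insert, Finset.mem_singleton] at hr hr'
    rcases hr with rfl | rfl <;> rcases hr' with rfl | rfl
    · rfl
    · exfalso
      apply hnB
      rw [hrr]
      exact B.mul_mem (B.mul_mem hh B.one_mem) hk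
    · exfalso
      apply hnB
      have : r = h⁻¹ * 1 * k⁻¹ := by rw [hrr]; group
      rw [this]
      exact B.mul_mem (B.mul_mem (B.inv_mem hh) B.one_mem) (B.inv_mem hk)
    · rfl
  have hcount : ∀ γ δ : ↥B →* ℂˣ,
      classInner (indFun B (linFun γ)) (indFun B (linFun δ)) =
        ((R.filter (fun r => Compat γ δ r)).card : ℂ) :=
    fun γ δ => Cfsg.Agent.Lib.Helper23.SLDZMack.mackey_count B B γ δ R hcover hdisj
  have hαα : classInner (indFun B (linFun α)) (indFun B (linFun α)) = 1 := by
    rw [hcount]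
    have : R.filter (fun r => Compat α α r) = {1} := by
      ext r
      simp only [Finset.mem_filter, hR, Finset.mem_insert, Finset.mem_singleton]
      constructor
      · rintro ⟨rfl | rfl, h⟩
        · rfl
        · exact absurd h (hα hab)
      · rintro rfl
        exact ⟨Or.inl rfl, (compat_one_iff α α).mpr rfl⟩
    rw [this]
    simp
  have hββ : classInner (indFun B (linFun β)) (indFun B (linFun β)) = 1 := by
    rw [hcount]
    have : R.filter (fun r => Compat β β r) = {1} := by
      ext r
      simp only [Finset.mem_filter, hR, Finset.mem_insert, Finset.mem_singleton]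
      constructor
      · rintro ⟨rfl | rfl, h⟩
        · rfl
        · exact absurd h (hβ hab)
      · rintro rfl
        exact ⟨Or.inl rfl, (compat_one_iff β β).mpr rfl⟩
    rw [this]
    simp
  have hαβ : classInner (indFun B (linFun α)) (indFun B (linFun β)) = 1 := by
    rw [hcount]
    have : R.filter (fun r => Compat α β r) = {n} := by
      ext r
      simp only [Finset.mem_filter, hR, Finset.mem_insert, Finset.mem_singleton]
      constructor
      · rintro ⟨rfl | rfl, h⟩
        · exact absurd ((compat_one_iff α β).mp h) hab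
        · rfl
      · rintro rfl
        exact ⟨Or.inr rfl, hc⟩
    rw [this]
    simp
  have hcα : IsCharacter P (indFun B (linFun α)) :=
    Cfsg.Agent.Lib.Helper79.BrauerN.isCharacter_indFun_linFun B α
  have hcβ : IsCharacter P (indFun B (linFun β)) :=
    Cfsg.Agent.Lib.Helper79.BrauerN.isCharacter_indFun_linFun B β
  have hiα := Cfsg.Agent.Lib.Helper78.isIrrCharacter_of_classInner_self_eq_one hcα hαα
  have hiβ := Cfsg.Agent.Lib.Helper78.isIrrCharacter_of_classInner_self_eq_one hcβ hββ
  by_contra hne
  rw [Cfsg.Agent.Lib.Helper78.classInner_irr_ne hiα hiβ hne] at hαβ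
  exact zero_ne_one hαβ

end Cfsg.Agent.Lib.Helper23.StUniq
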