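/-
helper23: module S2318-[A-RANK1LIN] of helper82's sheet (Steinberg character = unique p-defect-zero
character): in a rank one group `P = B ∪ BnX`, the second constituent of `Ind_B^P α` (norm two) is
a linear character extending `α`, provided it is orthogonal on `X` to all non-trivial linear
characters of the abelian group `X`.
-/
import Mathlib
import Cfsg.Agent.Lib.Helper82.StUniq.Defs
import Cfsg.Agent.Lib.Helper23.SLDZMack
import Cfsg.Agent.Lib.Helper78.CharMore
import Cfsg.Agent.Lib.Helper75.Clifford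
import Cfsg.Agent.Lib.Helper39.GL2PS
import Cfsg.Agent.Lib.Helper77.Linear
import Cfsg.Agent.Lib.Helper73.StUniq.ACharSum
import Cfsg.Agent.Lib.Helper23.StUniq.Rank1

set_option autoImplicit false

namespace Cfsg.Agent.Lib.Helper23.StUniq

open Cfsg
open scoped ComplexConjugate
open Cfsg.Agent.Lib.Helper79.BrauerN (linFun)
open Cfsg.Agent.Lib.Helper82.SLDZ (Compat)
open Cfsg.Agent.Lib.Helper82.StUniq

/-- the dual of a finite group with commutative multiplication is finite -/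
theorem finite_hom_of_comm {X : Type*} [Group X] [Finite X] (hX : ∀ a b : X, a * b = b * a) :
    Finite (X →* ℂˣ) := by
  let _ : CommGroup X := { (inferInstance : Group X) with mul_comm := hX }
  have : NeZero (Monoid.exponent X) := ⟨Monoid.exponent_ne_zero_of_finite⟩
  have h := CommGroup.card_monoidHom_of_hasEnoughRootsOfUnity X ℂ
  have h2 : Nat.card (X →* ℂˣ) ≠ 0 := by
    rw [h]
    exact Nat.card_pos.ne'
  exact Nat.finite_of_card_ne_zero h2

/-- Fourier inversion at `1` on a finite abelian group, for a function orthogonal to all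
non-trivial linear characters. -/
theorem sum_eq_card_mul_apply_one {X : Type*} [Group X] [Fintype X]
    (hX : ∀ a b : X, a * b = b * a) (f : X → ℂ)
    (horth : ∀ ξ : X →* ℂˣ, ξ ≠ 1 → ∑ x : X, f x * conj (linFun ξ x) = 0) :
    ∑ x : X, f x = (Nat.card X : ℂ) * f 1 := by
  classical
  have : Finite (X →* ℂˣ) := finite_hom_of_comm hX
  let _ : Fintype (X →* ℂˣ) := Fintype.ofFinite _
  have key : ∑ ξ : X →* ℂˣ, ∑ x : X, f x * conj (linFun ξ x) = ∑ x : X, f x := by
    rw [Finset.sum_eq_single (1 : X →* ℂˣ)]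
    · apply Finset.sum_congr rfl
      intro x _
      simp [linFun]
    · intro ξ _ hξ
      exact horth ξ hξ
    · intro h
      exact absurd (Finset.mem_univ _) h
  have key2 : ∑ ξ : X →* ℂˣ, ∑ x : X, f x * conj (linFun ξ x) = (Nat.card X : ℂ) * f 1 := by
    rw [Finset.sum_comm]
    have h1 : ∀ x : X, ∑ ξ : X →* ℂˣ, f x * conj (linFun ξ x)
        = f x * conj (∑ ξ : X →* ℂˣ, ((ξ x : ℂˣ) : ℂ)) := by
      intro x
      rw [map_sum, Finset.mul_sum]
      rfl
    simp only [h1, Cfsg.Agent.Lib.Helper73.StUniq.sum_hom_apply hX]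
    rw [Finset.sum_eq_single (1 : X)]
    · rw [if_pos rfl, Complex.conj_natCast, mul_comm]
    · intro x _ hx
      rw [if_neg hx, map_zero, mul_zero]
    · intro h
      exact absurd (Finset.mem_univ _) h
  rw [← key, key2]

open Classical in
/-- the sum of a character over a subgroup is a natural multiple of the order -/
theorem sum_res_eq_nat {P : Type*} [Group P] [Fintype P] (X : Subgroup P) (χ : P → ℂ)
    (hχ : IsCharacter P χ) :
    ∃ k : ℕ, ∑ x : ↥X, χ x = (Nat.card X : ℂ) * k := by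
  classical
  have hres : IsCharacter ↥X (fun x : ↥X => χ x) := Cfsg.Agent.Lib.Helper75.isCharacter_res X hχ
  obtain ⟨k, hk⟩ := Cfsg.Agent.Lib.Helper78.IsCharacter.exists_nat_classInner hres
    ⟨linFun (1 : ↥X →* ℂˣ), Cfsg.Agent.Lib.Helper79.BrauerN.isIrrCharacter_linFun _⟩
  refine ⟨k, ?_⟩
  have hXne : (Nat.card ↥X : ℂ) ≠ 0 := by
    have : Nat.card ↥X ≠ 0 := Nat.card_pos.ne'
    exact_mod_cast this
  unfold classInner at hk
  rw [← hk, ← mul_assoc, mul_inv_cancel₀ hXne, one_mul]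
  apply Finset.sum_congr rfl
  intro x _
  simp [linFun]

open Classical in
/-- **S2318-[A-RANK1LIN]** -/
theorem exists_linear_extension {P : Type*} [Group P] [Fintype P] (B X : Subgroup P) (n : P)
    (hXB : X ≤ B) (hnB : n ∉ B)
    (hcov : ∀ g : P, g ∈ B ∨ ∃ b ∈ B, ∃ x ∈ X, g = b * n * x)
    (hXcomm : ∀ x ∈ X, ∀ y ∈ X, x * y = y * x)
    (α : ↥B →* ℂˣ) (hαX : ∀ (x : P) (hx : x ∈ X), α ⟨x, hXB hx⟩ = 1) (hc : Compat α α n)
    (Λ : P → ℂ) (hΛ : IsIrrCharacter P Λ) (h1 : classInner Λ (indFun B (linFun α)) = 1)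
    (horth : ∀ ξ : ↥X →* ℂˣ, ξ ≠ 1 →
      ∑ x : ↥X, (indFun B (linFun α) (x : P) - Λ (x : P)) * conj (linFun ξ x) = 0) :
    ∃ μ : P →* ℂˣ, ∀ b : ↥B, μ (b : P) = α b := by
  classical
  set Ψ₀ : P → ℂ := indFun B (linFun α) with hΨ₀def
  have hΨ₀ : IsCharacter P Ψ₀ := Cfsg.Agent.Lib.Helper79.BrauerN.isCharacter_indFun_linFun B α
  have hΛc : IsCharacter P Λ := Cfsg.Agent.Lib.Helper78.IsIrrCharacter.isCharacter hΛ
  have h1n : (1 : P) ≠ n := fun h => hnB (h ▸ B.one_mem)
  -- the norm of `Ψ₀` is two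
  have hnorm : classInner Ψ₀ Ψ₀ = 2 := by
    set R : Finset P := {1, n} with hR
    have hcover : ∀ g : P, ∃ r ∈ R, ∃ h ∈ B, ∃ k ∈ B, g = h * r * k := by
      intro g
      rcases hcov g with hg | ⟨b, hb, x, hx, rfl⟩
      · exact ⟨1, by simp [hR], g, hg, 1, B.one_mem, by simp⟩
      · exact ⟨n, by simp [hR], b, hb, x, hXB hx, rfl⟩
    have hdisj : ∀ r ∈ R, ∀ r' ∈ R, (∃ h ∈ B, ∃ k ∈ B, r' = h * r * k) → r = r' := by
      intro r hr r' hr' ⟨h, hh, k, hk, hrr⟩
      rw [hR, Finset.mem_insert, Finset.mem_singleton] at hr hr'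
      rcases hr with rfl | rfl <;> rcases hr' with rfl | rfl
      · rfl
      · exfalso
        apply hnB
        rw [hrr]
        exact B.mul_mem (B.mul_mem hh B.one_mem) hk
      · exfalso
        apply hnB
        have : r = h⁻¹ * 1 * k⁻¹ := by rw [hrr]; group
        rw [this]
        exact B.mul_mem (B.mul_mem (B.inv_mem hh) B.one_mem) (B.inv_mem hk)
      · rfl
    rw [hΨ₀def, Cfsg.Agent.Lib.Helper23.SLDZMack.mackey_count B B α α R hcover hdisj]
    have : R.filter (fun r => Compat α α r) = R := by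
      apply Finset.filter_true_of_mem
      intro r hr
      rw [hR, Finset.mem_insert, Finset.mem_singleton] at hr
      rcases hr with rfl | rfl
      · exact (compat_one_iff α α).mpr rfl
      · exact hc
    rw [this, hR, Finset.card_pair h1n]
    norm_num
  -- split off `Λ`
  obtain ⟨m, Λ₂, hm, hΛ₂, hdec, hΛ₂Λ⟩ :=
    Cfsg.Agent.Lib.Helper39.exists_isCharacter_remainder hΨ₀ hΛ
  have hm1 : m = 1 := by
    have h2 : classInner Ψ₀ Λ = 1 := by
      rw [← Cfsg.Agent.Lib.Helper78.classInner_conj_symm, h1, map_one]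
    rw [h2] at hm
    exact_mod_cast hm.symm
  subst hm1
  rw [Nat.cast_one, one_smul] at hdec
  have hΛΛ₂ : classInner Λ Λ₂ = 0 := by
    rw [← Cfsg.Agent.Lib.Helper78.classInner_conj_symm, hΛ₂Λ, map_zero]
  have hΛΛ : classInner Λ Λ = 1 := Cfsg.Agent.Lib.Helper78.classInner_irr_self hΛ
  have hΛ₂norm : classInner Λ₂ Λ₂ = 1 := by
    have := hnorm
    rw [hdec, Cfsg.Agent.Lib.Helper78.classInner_add_left,
      Cfsg.Agent.Lib.Helper78.classInner_add_right, Cfsg.Agent.Lib.Helper78.classInner_add_right,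
      hΛΛ, hΛΛ₂, hΛ₂Λ] at this
    linear_combination this
  have hΛ₂Ψ₀ : classInner Λ₂ Ψ₀ = 1 := by
    rw [hdec, Cfsg.Agent.Lib.Helper78.classInner_add_right, hΛ₂Λ, hΛ₂norm, zero_add]
  -- values on `X`
  have hXcomm' : ∀ a b : ↥X, a * b = b * a := fun a b => Subtype.ext (hXcomm a a.2 b b.2)
  have hfour : ∑ x : ↥X, Λ₂ (x : P) = (Nat.card ↥X : ℂ) * Λ₂ 1 := by
    have := sum_eq_card_mul_apply_one hXcomm' (fun x : ↥X => Λ₂ (x : P)) (by
      intro ξ hξ
      have h := horth ξ hξ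
      rw [← h]
      apply Finset.sum_congr rfl
      intro x _
      rw [hdec]
      simp)
    simpa using this
  have hXne : (Nat.card ↥X : ℂ) ≠ 0 := by
    have : Nat.card ↥X ≠ 0 := Nat.card_pos.ne'
    exact_mod_cast this
  -- `∑_X Ψ₀ = |X| m'` with `m' ≤ 2`
  obtain ⟨m', hm', hm'val⟩ : ∃ m' : ℕ, m' ≤ 2 ∧ ∑ x : ↥X, Ψ₀ (x : P) = (Nat.card ↥X : ℂ) * m' := by
    set R : Finset P := {1, n} with hR
    have hcover : ∀ g : P, ∃ r ∈ R, ∃ h ∈ B, ∃ k ∈ X, g = h * r * k := by
      intro g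
      rcases hcov g with hg | ⟨b, hb, x, hx, rfl⟩
      · exact ⟨1, by simp [hR], g, hg, 1, X.one_mem, by simp⟩
      · exact ⟨n, by simp [hR], b, hb, x, hx, rfl⟩
    obtain ⟨m', hm', hval⟩ :=
      Cfsg.Agent.Lib.Helper23.SLDZMack.mackey_le B X α (1 : ↥X →* ℂˣ) R hcover
    refine ⟨m', hm'.trans ?_, ?_⟩
    · calc (R.filter (fun r => Compat α (1 : ↥X →* ℂˣ) r)).card ≤ R.card := Finset.card_filter_le _ _
        _ = 2 := by rw [hR, Finset.card_pair h1n]
    · rw [Cfsg.Agent.Lib.Helper75.frobenius_reciprocity' X (linFun (1 : ↥X →* ℂˣ))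
        (Cfsg.Agent.Lib.Helper78.IsCharacter.isClassFunction hΨ₀)] at hval
      unfold classInner at hval
      rw [← hval, ← mul_assoc, mul_inv_cancel₀ hXne, one_mul]
      apply Finset.sum_congr rfl
      intro x _
      simp [linFun]
  -- `∑_X Λ = |X| (1 + k')`
  obtain ⟨k', hk'⟩ : ∃ k' : ℕ, ∑ x : ↥X, Λ (x : P) = (Nat.card ↥X : ℂ) * (1 + k') := by
    have hΛB : IsCharacter ↥B (fun b : ↥B => Λ b) := Cfsg.Agent.Lib.Helper75.isCharacter_res B hΛc
    have hαirr : IsIrrCharacter ↥B (linFun α) :=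
      Cfsg.Agent.Lib.Helper79.BrauerN.isIrrCharacter_linFun α
    obtain ⟨a, R', ha, hR', hdecB, -⟩ :=
      Cfsg.Agent.Lib.Helper39.exists_isCharacter_remainder hΛB hαirr
    have ha1 : a = 1 := by
      have h2 := h1
      rw [hΨ₀def, Cfsg.Agent.Lib.Helper75.frobenius_reciprocity' B (linFun α)
        (Cfsg.Agent.Lib.Helper78.IsCharacter.isClassFunction hΛc)] at h2
      rw [h2] at ha
      exact_mod_cast ha.symm
    subst ha1
    rw [Nat.cast_one, one_smul] at hdecB
    -- restrict `R'` to `X` (as a subgroup of `B`)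
    obtain ⟨k', hk'⟩ := sum_res_eq_nat (X.subgroupOf B) R' hR'
    refine ⟨k', ?_⟩
    have hcard : Nat.card ↥(X.subgroupOf B) = Nat.card ↥X :=
      Nat.card_congr (Subgroup.subgroupOfEquivOfLe hXB).toEquiv
    have e1 : ∑ x : ↥X, Λ (x : P) = ∑ y : ↥(X.subgroupOf B), Λ ((y : ↥B) : P) := by
      apply Fintype.sum_equiv (Subgroup.subgroupOfEquivOfLe hXB).symm.toEquiv
      intro x
      rfl
    rw [e1]
    have e2 : ∀ y : ↥(X.subgroupOf B), Λ ((y : ↥B) : P) = 1 + R' (y : ↥B) := by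
      intro y
      have := congrFun hdecB (y : ↥B)
      simp only [Pi.add_apply] at this
      rw [this]
      congr 1
      have hy : ((y : ↥B) : P) ∈ X := Subgroup.mem_subgroupOf.mp y.2
      have := hαX ((y : ↥B) : P) hy
      unfold linFun
      have e : (⟨((y : ↥B) : P), hXB hy⟩ : ↥B) = (y : ↥B) := Subtype.ext rfl
      rw [e] at this
      rw [this, Units.val_one]
    rw [Finset.sum_congr rfl (fun y _ => e2 y), Finset.sum_add_distrib, hk', hcard]
    simp only [Finset.sum_const, Finset.card_univ, nsmul_eq_mul, mul_one]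
    rw [← Nat.card_eq_fintype_card, hcard]
    ring
  -- the degree of `Λ₂`
  obtain ⟨d, hd⟩ : ∃ d : ℕ, Λ₂ 1 = d := by
    obtain ⟨d, ρ, hρ⟩ := hΛ₂
    refine ⟨d, ?_⟩
    rw [← hρ, Representation.char_one]
    simp
  have hsumX : ∑ x : ↥X, Λ₂ (x : P) = ∑ x : ↥X, Ψ₀ (x : P) - ∑ x : ↥X, Λ (x : P) := by
    rw [← Finset.sum_sub_distrib]
    apply Finset.sum_congr rfl
    intro x _
    rw [hdec]
    simp
  rw [hfour, hm'val, hk', hd] at hsumX
  have hdeq : (d : ℂ) = (m' : ℂ) - (1 + k') := by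
    apply mul_left_cancel₀ hXne
    rw [hsumX]
    ring
  have hdnat : d + 1 + k' = m' := by
    have : ((d + 1 + k' : ℕ) : ℂ) = (m' : ℂ) := by
      push_cast
      rw [hdeq]
      ring
    exact_mod_cast this
  have hd0 : d ≠ 0 := by
    rintro rfl
    have hz : Λ₂ = 0 := Cfsg.Agent.Lib.Helper39.eq_zero_of_isCharacter_of_apply_one hΛ₂ (by
      rw [hd]; simp)
    rw [hz] at hΛ₂norm
    simp [classInner] at hΛ₂norm
  have hd1 : d = 1 := by omega
  rw [hd1, Nat.cast_one] at hd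
  obtain ⟨μ, hμ⟩ := Cfsg.Agent.Lib.Helper77.exists_monoidHom_of_degree_one hΛ₂ hd
  refine ⟨μ, ?_⟩
  -- `μ` restricts to `α`
  have hresB : (fun b : ↥B => Λ₂ b) = linFun (μ.comp B.subtype) := by
    funext b
    rw [hμ]
    rfl
  have hinner : classInner (linFun (μ.comp B.subtype)) (linFun α) = 1 := by
    rw [← hresB, ← Cfsg.Agent.Lib.Helper75.frobenius_reciprocity' B (linFun α)
      (Cfsg.Agent.Lib.Helper78.IsCharacter.isClassFunction hΛ₂)]
    exact hΛ₂Ψ₀
  have heq : linFun (μ.comp B.subtype) = linFun α := by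
    by_contra hne
    rw [Cfsg.Agent.Lib.Helper78.classInner_irr_ne
      (Cfsg.Agent.Lib.Helper79.BrauerN.isIrrCharacter_linFun _)
      (Cfsg.Agent.Lib.Helper79.BrauerN.isIrrCharacter_linFun _) hne] at hinner
    exact zero_ne_one hinner
  intro b
  have := congrFun heq b
  unfold linFun at this
  exact Units.ext this

end Cfsg.Agent.Lib.Helper23.StUniq
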